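import Mathlib.RingTheory.Polynomial.GaussLemma
import Mathlib.RingTheory.Radical.Basic
import Mathlib.FieldTheory.Perfect

/-!
# The squarefree part of a monic polynomial over an integrally closed domain of characteristic zero
-/

set_option autoImplicit false
universe u

namespace K313.SqfreePart

open Polynomial UniqueFactorizationMonoid

/-- `f` monic over a normal domain of characteristic zero: there is a monic `w`, `w ∣ f ∣ w ^ N`, with
`0 ≠ d ∈ (w, w')`. -/
theorem exists_sqfreePart (R : Type u) [CommRing R] [IsDomain R] [IsIntegrallyClosed R] [CharZero R] (f : R[X])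
    (hf : f.Monic) : ∃ (w : R[X]) (d : R) (N : ℕ), w.Monic ∧ w ∣ f ∧ f ∣ w ^ N ∧ d ≠ 0 ∧
      C d ∈ Ideal.span {w, derivative w} := by
  classical
  let K := FractionRing R
  have hK : CharZero K := charZero_of_injective_algebraMap (IsFractionRing.injective R K)
  let F : K[X] := f.map (algebraMap R K)
  have hF : F.Monic := hf.map _
  obtain ⟨w, hw⟩ := IsIntegrallyClosed.eq_map_mul_C_of_dvd K hf (radical_dvd_self (a := F))
  have hlc : (radical F).leadingCoeff = 1 := by
    rw [radical, leadingCoeff_prod]
    refine Finset.prod_eq_one fun p hp => ?_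
    have h1 : p ∈ normalizedFactors F := mem_primeFactors.1 hp
    have h2 : p ≠ 0 := (irreducible_of_normalized_factor p h1).ne_zero
    have h3 : normalize p = p := normalize_normalized_factor p h1
    rw [← h3]
    exact monic_normalize h2
  rw [hlc, C_1, mul_one] at hw
  have hwm : w.Monic := by
    have h1 : (w.map (algebraMap R K)).Monic := by rw [hw]; exact hlc
    exact (Function.Injective.monic_map_iff (IsFractionRing.injective R K)).2 h1
  obtain ⟨N, hN⟩ := exists_dvd_radical_self_pow (a := F) hF.ne_zero
  have hsep : (w.map (algebraMap R K)).Separable := by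
    rw [PerfectField.separable_iff_squarefree, hw]
    exact squarefree_radical
  obtain ⟨a, b, hab⟩ := hsep
  obtain ⟨r, hr, ha⟩ := IsLocalization.integerNormalization_spec (nonZeroDivisors R) a
  obtain ⟨s, hs, hb⟩ := IsLocalization.integerNormalization_spec (nonZeroDivisors R) b
  refine ⟨w, r * s, N, hwm, ?_, ?_, nonZeroDivisors.ne_zero (mul_mem hr hs), ?_⟩
  · rw [← map_dvd_map (algebraMap R K) (IsFractionRing.injective R K) hwm, hw]
    exact radical_dvd_self
  · rw [← map_dvd_map (algebraMap R K) (IsFractionRing.injective R K) hf, Polynomial.map_pow, hw]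
    exact hN
  · rw [Ideal.mem_span_pair]
    refine ⟨C s * IsLocalization.integerNormalization (nonZeroDivisors R) a,
      C r * IsLocalization.integerNormalization (nonZeroDivisors R) b, ?_⟩
    apply Polynomial.map_injective (algebraMap R K) (IsFractionRing.injective R K)
    have e1 : ∀ (t : R) (c : K[X]), t • c = C (algebraMap R K t) * c := fun t c => by
      rw [← algebraMap_smul K t c, smul_eq_C_mul]
    rw [Polynomial.map_add, Polynomial.map_mul, Polynomial.map_mul, Polynomial.map_mul, Polynomial.map_mul,
      ha, hb, map_C, map_C, map_C, ← derivative_map, e1, e1, map_mul, C_mul]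
    calc _ = C (algebraMap R K r) * C (algebraMap R K s) *
          (a * map (algebraMap R K) w + b * derivative (map (algebraMap R K) w)) := by ring
      _ = _ := by rw [hab, mul_one]

end K313.SqfreePart
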