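import Groth.Agent.EtDl.K556.CertBasic
import Groth.Agent.EtDl.K313.SqfreePart
import Groth.Agent.Etdl.H436.CoordChange
import Groth.Agent.Etdl.H437.PolyPow
import Groth.Agent.UnramA.PowerSeriesNormal
import Groth.Agent.CalgB.PowField
import Mathlib.RingTheory.PowerSeries.WeierstrassPreparation

/-!
# Certificates over `Spec K[[x_1, …, x_m]]`

`exists_cert`: for `g ≠ 0` in `K[[x_1, …, x_m]]`, `K` of characteristic zero, there is a nonempty open `V` on which
`g` is invertible with `Cert (Spec K[[x_1, …, x_m]]) V`, from the Weierstrass step (`WeierStep`) and the stability of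
certificates under regular base change (`RegPull`).
-/

set_option autoImplicit false
universe u

open CategoryTheory CategoryTheory.Limits AlgebraicGeometry Polynomial IsLocalRing

namespace K313.Bm

open K556.CertDef Groth.Agent.Etdl

/-- The Weierstrass step: certificates over the complement of a hypersurface finite over the base. -/
def WeierStep : Prop :=
  ∀ (A : Type u) [CommRing A] [Algebra ℚ A] (w : A[X]) (d : A) (V : (Spec (CommRingCat.of A)).Opens), w.Monic →
    C d ∈ Ideal.span {w, derivative w} → (∀ p ∈ V, d ∉ p.asIdeal) → Cert (Spec (CommRingCat.of A)) V →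
    Cert (Spec (CommRingCat.of A[X]))
      ((Spec.map (CommRingCat.ofHom (C : A →+* A[X])) ⁻¹ᵁ V) ⊓ (PrimeSpectrum.basicOpen w))

/-- Stability of certificates under regular base change (affine case). -/
def RegPull : Prop :=
  ∀ (P P' : Type u) [CommRing P] [CommRing P'] [Algebra P P'] [IsNoetherianRing P] [IsNoetherianRing P'],
    CAlg.IsRegularHom P P' → ∀ V : (Spec (CommRingCat.of P)).Opens, Cert (Spec (CommRingCat.of P)) V →
      Cert (Spec (CommRingCat.of P')) (Spec.map (CommRingCat.ofHom (algebraMap P P')) ⁻¹ᵁ V)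

theorem C_surjective (K : Type u) [Field K] :
    Function.Surjective (MvPowerSeries.C (σ := Fin 0) (R := K)) := by
  intro f
  refine ⟨MvPowerSeries.constantCoeff f, ?_⟩
  ext n
  obtain rfl : n = 0 := Subsingleton.elim _ _
  simp

/-- The case `m = 0`. -/
theorem cert_zero (K : Type u) [Field K] : Cert (Spec (CommRingCat.of (MvPowerSeries (Fin 0) K))) ⊤ := by
  let e : K ≃+* MvPowerSeries (Fin 0) K :=
    RingEquiv.ofBijective (MvPowerSeries.C (σ := Fin 0) (R := K)) ⟨(MvPowerSeries.C (σ := Fin 0) (R := K)).injective, C_surjective K⟩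
  refine Cert.leaf _ (fun i : Fin 0 => i.elim0) ⟨fun J => ?_, fun J i => i.elim0⟩ ⊤ fun p _ => trivial
  have h1 : (fun i : Fin 0 => (i.elim0 : MvPowerSeries (Fin 0) K)) '' J = ∅ := by
    rw [Set.image_eq_empty]
    exact Set.eq_empty_of_isEmpty J
  rw [h1, Ideal.span_empty]
  exact IsRegularRing.of_ringEquiv (e.trans (RingEquiv.quotientBot _).symm)

/-- Certificates over `Spec K[[x_1, …, x_m]]`. -/
theorem exists_cert (hW : WeierStep.{u}) (hR : RegPull.{u}) (K : Type u) [Field K] [CharZero K] (m : ℕ) :
    ∀ g : MvPowerSeries (Fin m) K, g ≠ 0 →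
      ∃ V : (Spec (CommRingCat.of (MvPowerSeries (Fin m) K))).Opens, (∃ p, p ∈ V) ∧
        (∀ p ∈ V, g ∉ p.asIdeal) ∧ Cert (Spec (CommRingCat.of (MvPowerSeries (Fin m) K))) V := by
  induction m with
  | zero =>
    intro g hg
    obtain ⟨c, rfl⟩ := C_surjective K g
    have hc : c ≠ 0 := by
      rintro rfl
      exact hg (map_zero _)
    have hdom : Nonempty (PrimeSpectrum (MvPowerSeries (Fin 0) K)) := inferInstance
    refine ⟨⊤, ⟨hdom.some, trivial⟩, fun p _ hp => ?_, cert_zero K⟩
    exact p.isPrime.ne_top (Ideal.eq_top_of_isUnit_mem _ hp ((isUnit_iff_ne_zero.2 hc).map _))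
  | succ m ih =>
    intro g hg
    let R := MvPowerSeries (Fin m) K
    let A := MvPowerSeries (Fin (m + 1)) K
    obtain ⟨hRdom, hRic⟩ := Groth.Agent.UnramA.PowerSeriesNormal.isIntegrallyClosed_mvPowerSeries K m
    obtain ⟨hAdom, hAic⟩ := Groth.Agent.UnramA.PowerSeriesNormal.isIntegrallyClosed_mvPowerSeries K (m + 1)
    have hRcomp := Groth.Agent.CalgB.PowField.isAdicComplete K m
    have hR0 : CharZero R := charZero_of_injective_algebraMap (algebraMap K R).injective
    let _ : Algebra ℚ K := inferInstance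
    let _ : Algebra ℚ R := inferInstance
    have hinf : Infinite K := Infinite.of_injective ((↑) : ℕ → K) Nat.cast_injective
    obtain ⟨e, he⟩ := Groth.Agent.Etdl.H436.CoordChange.exists_coordChange g hg
    obtain ⟨f, u, H⟩ := (e g).exists_isWeierstrassFactorization he
    have hf : f.Monic := H.isDistinguishedAt.monic
    obtain ⟨w, d, N, hw, hwf, hfw, hd, hdw⟩ := SqfreePart.exists_sqfreePart R f hf
    obtain ⟨V', ⟨p', hp'⟩, hdV', hV'⟩ := ih d hd
    have h1 := hW R w d V' hw hdw hdV' hV'
    let ρ : R[X] →+* A := (e.symm : PowerSeries R →+* A).comp (algebraMap R[X] (PowerSeries R))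
    let _ : Algebra R[X] A := ρ.toAlgebra
    have hρ : CAlg.IsRegularHom R[X] A :=
      Groth.Agent.Ega4C.GeomCompReg.isRegularHom_of_algEquiv R[X] (PowerSeries R) A
        { e.symm.toRingEquiv with commutes' := fun r => rfl } (H437.PolyPow.isRegularHom_mvPowerSeries_powerSeries K m)
    have hρv : ∀ p : R[X], ρ p = e.symm (p : PowerSeries R) := fun p => by
      change e.symm (algebraMap R[X] (PowerSeries R) p) = _
      rw [H437.PolyPow.algebraMap_eq_coe]
    have hρi : Function.Injective ρ := fun a b hab => by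
      rw [hρv, hρv] at hab
      exact Polynomial.coe_injective R (e.symm.injective hab)
    have hge : g = ρ f * e.symm u := by
      rw [hρv, ← map_mul, ← H.eq_mul]
      exact (e.symm_apply_apply g).symm
    have h2 := hR R[X] A hρ _ h1
    -- the generic point
    have hbot : ∀ a : R[X], a ∈ (Spec.map (CommRingCat.ofHom (algebraMap R[X] A))
        (⟨⊥, Ideal.isPrime_bot⟩ : PrimeSpectrum A)).asIdeal ↔ a = 0 := by
      intro a
      change ρ a ∈ (⊥ : Ideal A) ↔ a = 0
      rw [Ideal.mem_bot, map_eq_zero_iff ρ hρi]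
    refine ⟨_, ?_, ?_, h2⟩
    · refine ⟨(⟨⊥, Ideal.isPrime_bot⟩ : PrimeSpectrum A), ?_, ?_⟩
      · -- `V'` contains the generic point
        change (Spec.map (CommRingCat.ofHom (C : R →+* R[X]))) (Spec.map (CommRingCat.ofHom (algebraMap R[X] A))
          (⟨⊥, Ideal.isPrime_bot⟩ : PrimeSpectrum A)) ∈ V'
        refine V'.2.stableUnderGeneralization ?_ hp'
        refine (PrimeSpectrum.le_iff_specializes _ _).1 fun a ha => ?_
        have h3 : C a ∈ (Spec.map (CommRingCat.ofHom (algebraMap R[X] A))
          (⟨⊥, Ideal.isPrime_bot⟩ : PrimeSpectrum A)).asIdeal := ha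
        rw [hbot, C_eq_zero] at h3
        rw [h3]
        exact p'.asIdeal.zero_mem
      · change w ∉ _
        rw [hbot]
        exact hw.ne_zero
    · intro p hp hgp
      have h3 : w ∉ ((Spec.map (CommRingCat.ofHom (algebraMap R[X] A))) p).asIdeal := hp.2
      refine h3 ?_
      have hu : IsUnit (e.symm u) := H.isUnit.map e.symm
      have h4 : ρ f ∈ p.asIdeal := by
        rw [hge] at hgp
        exact (Ideal.mul_unit_mem_iff_mem _ hu).1 hgp
      have h5 : ρ (w ^ N) ∈ p.asIdeal := by
        obtain ⟨c, hc⟩ := hfw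
        rw [hc, map_mul]
        exact p.asIdeal.mul_mem_right _ h4
      rw [map_pow] at h5
      exact p.isPrime.mem_of_pow_mem N h5

end K313.Bm
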