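import Groth.Agent.EtDl.K556.GoodDef
import Groth.Agent.CycB.SetupLft
import Groth.Agent.S12460
import Groth.Agent.S7414
import Groth.Agent.S2651

/-!
# Excellent Noetherian `ℚ`-schemes: local criterion, schemes of finite type
-/

set_option autoImplicit false
universe u

open CategoryTheory CategoryTheory.Limits AlgebraicGeometry

namespace K313.ExcOps

open K556.GoodDef

/-- Excellence is Zariski local. -/
theorem exc_of_local {X : Scheme.{u}} [IsLocallyNoetherian X]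
    (h : ∀ x : X, ∃ U : X.affineOpens, x ∈ U.1 ∧ EGA4.IsExcellent Γ(X, U.1)) (V : X.affineOpens) :
    EGA4.IsExcellent Γ(X, V.1) := by
  refine ⟨IsLocallyNoetherian.component_noetherian V, ?_, ?_, ?_⟩
  · refine Groth.Agent.CycB.SetupLft.isUniversallyCatenary_of_isAffineOpen (fun y => ?_) V.2
    obtain ⟨⟨U, hU⟩, hyU, hexc⟩ := h y
    let : Algebra Γ(X, U) (X.presheaf.stalk y) := (X.presheaf.germ U y hyU).hom.toAlgebra
    have h3 : IsLocalization.AtPrime (X.presheaf.stalk y) (hU.primeIdealOf ⟨y, hyU⟩).asIdeal :=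
      hU.isLocalization_stalk ⟨y, hyU⟩
    exact Groth.Agent.CalgA.UnivCat.isUniversallyCatenary_of_isLocalization
      (hU.primeIdealOf ⟨y, hyU⟩).asIdeal.primeCompl hexc.2.1
  · refine (Groth.Agent.S7414.result X).1 (fun x => ?_) V.1 V.2
    obtain ⟨U, hxU, hexc⟩ := h x
    exact ⟨U.1, hxU, U.2, hexc.2.2.1⟩
  · have h1 := Groth.Agent.S12460.result X
    refine h1.1.1 (h1.2.2 fun x => ?_) V
    obtain ⟨U, hxU, hexc⟩ := h x
    exact ⟨U, hxU, hexc.2.2.2⟩

/-- Schemes locally of finite type over locally excellent schemes. -/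
theorem exc_of_lft {X Y : Scheme.{u}} (f : Y ⟶ X) [LocallyOfFiniteType f]
    (h : ∀ x : X, ∃ U : X.affineOpens, x ∈ U.1 ∧ EGA4.IsExcellent Γ(X, U.1)) (y : Y) :
    ∃ U : Y.affineOpens, y ∈ U.1 ∧ EGA4.IsExcellent Γ(Y, U.1) := by
  obtain ⟨V, hyV, hV⟩ := h (f y)
  obtain ⟨_, ⟨W, hW, rfl⟩, hyW, hWV⟩ :=
    Y.isBasis_affineOpens.exists_subset_of_mem_open (show y ∈ f ⁻¹ᵁ V.1 from hyV) (f ⁻¹ᵁ V.1).2
  refine ⟨⟨W, hW⟩, hyW, ?_⟩
  have h1 := f.finiteType_appLE V.2 hW hWV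
  algebraize [(f.appLE V.1 W hWV).hom]
  exact Groth.Agent.S2651.result Γ(X, V.1) hV Γ(Y, W)

theorem exists_nhd {X : Scheme.{u}} (h : ∀ V : X.affineOpens, EGA4.IsExcellent Γ(X, V.1)) (x : X) :
    ∃ U : X.affineOpens, x ∈ U.1 ∧ EGA4.IsExcellent Γ(X, U.1) := by
  obtain ⟨U, hU, hxU, -⟩ := exists_isAffineOpen_mem_and_subset (X := X) (x := x) (U := ⊤) trivial
  exact ⟨⟨U, hU⟩, hxU, h ⟨U, hU⟩⟩

/-- Schemes of finite type over an excellent Noetherian `ℚ`-scheme. -/
theorem excQ_of_finiteType {X Y : Scheme.{u}} (hX : ExcQ X) (f : Y ⟶ X) [LocallyOfFiniteType f]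
    [QuasiCompact f] : ExcQ Y := by
  have := hX.noeth
  have h1 : IsLocallyNoetherian Y := LocallyOfFiniteType.isLocallyNoetherian f
  have h2 : CompactSpace Y := QuasiCompact.compactSpace_of_compactSpace f
  exact
    { noeth := { }
      rat := ⟨f ≫ hX.rat.some⟩
      exc := exc_of_local (exc_of_lft f (exists_nhd hX.exc)) }

/-- Open subschemes. -/
theorem excQ_open {X : Scheme.{u}} (hX : ExcQ X) (U : X.Opens) : ExcQ (U : Scheme.{u}) := by
  have := hX.noeth
  have : QuasiCompact U.ι := inferInstance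
  exact excQ_of_finiteType hX U.ι

end K313.ExcOps
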