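import Mathlib.AlgebraicGeometry.Morphisms.Etale
import Mathlib.AlgebraicGeometry.Noetherian
import Mathlib.RingTheory.Etale.Locus
import Mathlib.RingTheory.Etale.Field
import Mathlib.RingTheory.Ideal.GoingUp
import Mathlib.RingTheory.FinitePresentation

/-!
# Generic étaleness of finite extensions of domains of characteristic zero

`exists_away_etale`, `etale_restrict`.
-/

set_option autoImplicit false
universe u

open CategoryTheory CategoryTheory.Limits AlgebraicGeometry

namespace K313.GenEtale

section

variable (A O : Type u) [CommRing A] [IsDomain A] [CommRing O] [IsDomain O] [Algebra A O]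
  [Module.Finite A O] [FaithfulSMul A O]

theorem formallyEtale_fractionRing [CharZero A] : Algebra.FormallyEtale A (FractionRing O) := by
  let _ : Algebra (FractionRing A) (FractionRing O) := FractionRing.liftAlgebra A (FractionRing O)
  have : IsScalarTower A (FractionRing A) (FractionRing O) := FractionRing.isScalarTower_liftAlgebra A (FractionRing O)
  have h0 : CharZero (FractionRing A) := charZero_of_injective_algebraMap (IsFractionRing.injective A (FractionRing A))
  have h1 : Algebra.FormallyEtale A (FractionRing A) := Algebra.FormallyEtale.of_isLocalization (nonZeroDivisors A)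
  have h2 : Algebra.IsAlgebraic A O := Algebra.IsIntegral.isAlgebraic
  have h3' : Algebra.IsAlgebraic O (FractionRing O) := IsLocalization.isAlgebraic _ (nonZeroDivisors O)
  have h3 : Algebra.IsAlgebraic A (FractionRing O) := Algebra.IsAlgebraic.trans A O (FractionRing O)
  have h4 : Algebra.IsAlgebraic (FractionRing A) (FractionRing O) :=
    (IsFractionRing.comap_isAlgebraic_iff (A := A)).1 h3
  have h5 : Algebra.IsSeparable (FractionRing A) (FractionRing O) := inferInstance
  have h6 : Algebra.FormallyEtale (FractionRing A) (FractionRing O) := Algebra.FormallyEtale.of_isSeparable _ _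
  exact Algebra.FormallyEtale.comp A (FractionRing A) (FractionRing O)

omit [FaithfulSMul A O] in
/-- Nonzero elements of `O` divide nonzero elements of `A`. -/
theorem exists_dvd (s : O) (hs : s ≠ 0) : ∃ g : A, g ≠ 0 ∧ s ∣ algebraMap A O g := by
  have h1 : (Ideal.span {s}).comap (algebraMap A O) ≠ ⊥ :=
    Ideal.comap_ne_bot_of_integral_mem hs (Ideal.subset_span rfl) (Algebra.IsIntegral.isIntegral s)
  obtain ⟨g, hg, hg0⟩ := Submodule.exists_mem_ne_zero_of_ne_bot h1
  exact ⟨g, hg0, Ideal.mem_span_singleton.1 hg⟩

theorem exists_away_etale [IsNoetherianRing A] [CharZero A] :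
    ∃ g : A, g ≠ 0 ∧ Algebra.Etale A (Localization.Away (algebraMap A O g)) := by
  have hfp : Algebra.FinitePresentation A O := Algebra.FinitePresentation.of_finiteType.1 inferInstance
  have h1 := formallyEtale_fractionRing A O
  have hbot : (⊥ : Ideal O).IsPrime := Ideal.isPrime_bot
  have h2 : Algebra.IsEtaleAt A (⊥ : Ideal O) := by
    have h3 : (⊥ : Ideal O).primeCompl = nonZeroDivisors O := by
      ext x
      rw [mem_nonZeroDivisors_iff_ne_zero]
      rfl
    have h4 : IsLocalization (nonZeroDivisors O) (Localization.AtPrime (⊥ : Ideal O)) := by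
      rw [← h3]
      infer_instance
    let e : FractionRing O ≃ₐ[O] Localization.AtPrime (⊥ : Ideal O) :=
      IsLocalization.algEquiv (nonZeroDivisors O) _ _
    exact Algebra.FormallyEtale.of_equiv (e.restrictScalars A)
  obtain ⟨s, hs, het⟩ := Algebra.exists_etale_of_isEtaleAt (R := A) (⊥ : Ideal O)
  obtain ⟨g, hg, t, ht⟩ := exists_dvd A O s (fun h => hs h)
  refine ⟨g, hg, Algebra.basicOpen_subset_etaleLocus_iff_etale.1 ?_⟩
  refine Set.Subset.trans ?_ (Algebra.basicOpen_subset_etaleLocus_iff_etale.2 het)
  intro p hp hps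
  exact hp (by rw [ht]; exact p.asIdeal.mul_mem_right _ hps)

end

/-- The restriction to opens of `D(g)`. -/
theorem etale_restrict (A O : Type u) [CommRing A] [CommRing O] [Algebra A O] (g : A)
    (h : Algebra.Etale A (Localization.Away (algebraMap A O g))) (V : (Spec (CommRingCat.of A)).Opens)
    (hV : ∀ p ∈ V, g ∉ p.asIdeal) : Etale (Spec.map (CommRingCat.ofHom (algebraMap A O)) ∣_ V) := by
  let f := Spec.map (CommRingCat.ofHom (algebraMap A O))
  let j : Spec (CommRingCat.of (Localization.Away (algebraMap A O g))) ⟶ Spec (CommRingCat.of O) :=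
    Spec.map (CommRingCat.ofHom (algebraMap O (Localization.Away (algebraMap A O g))))
  have hj : IsOpenImmersion j := inferInstance
  have hjf : Etale (j ≫ f) := by
    rw [← Spec.map_comp, ← CommRingCat.ofHom_comp, ← IsScalarTower.algebraMap_eq,
      HasRingHomProperty.Spec_iff (P := @AlgebraicGeometry.Etale)]
    exact RingHom.etale_algebraMap.2 h
  have hr : Set.range (f ⁻¹ᵁ V).ι ⊆ Set.range j := by
    rw [Scheme.Opens.range_ι]
    intro p hp
    have h1 : Set.range j = (PrimeSpectrum.basicOpen (algebraMap A O g) : Set (PrimeSpectrum O)) :=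
      PrimeSpectrum.localization_away_comap_range _ _
    rw [h1]
    exact hV _ hp
  let l := IsOpenImmersion.lift j (f ⁻¹ᵁ V).ι hr
  have hl : l ≫ j = (f ⁻¹ᵁ V).ι := IsOpenImmersion.lift_fac _ _ _
  have hl' : IsOpenImmersion l := by
    have : IsOpenImmersion (l ≫ j) := by rw [hl]; infer_instance
    exact IsOpenImmersion.of_comp l j
  have h2 : Etale ((f ∣_ V) ≫ V.ι) := by
    rw [morphismRestrict_ι, ← hl, Category.assoc]
    infer_instance
  exact MorphismProperty.of_postcomp (W := @AlgebraicGeometry.Etale) (W' := @AlgebraicGeometry.Etale) (f ∣_ V) V.ι inferInstance h2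

end K313.GenEtale
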