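import Groth.Agent.EtDl.K313.Leray
import Groth.Agent.Etdl.H434.Core
import Groth.Agent.S0184
import Groth.Agent.S0672
import Groth.Agent.S8546
import Groth.Agent.S0129

/-!
# Constructible sheaves killed by a power of `n`: Leray, proper direct images, smooth base change, smooth descent

* `edge`, `comp`: Leray for `Cn n`, one degree at a time;
* `cn_rpush_proper`: proper direct images;
* `smoothBC`: smooth base change;
* `cn_of_open_cover`, `cn_of_smooth_cover`: descent along open covers and smooth covers.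
-/

set_option autoImplicit false
universe u
open CategoryTheory CategoryTheory.Limits AlgebraicGeometry Opposite

namespace K313.GoodOps

open Groth.Agent.Sga4h Groth.Agent.Sga4h.WayOut Groth.Agent.Sga4h.ConsWO Groth.Agent.Sga4h.PushDer
open Groth.Agent.Sga4h.FinD Groth.Agent.Etdl.H434 Groth.Agent

variable {n : ℕ} {X Y Z : Scheme.{u}}

theorem injective_push (f : X ⟶ Y) (I : EtCoh.Ab X) (hI : Injective I) : Injective ((EtCoh.push f).obj I) :=
  push_injective f I hI

/-- Lemma E. -/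
theorem edge [IsLocallyNoetherian Z] (p : X ⟶ Y) (j : Y ⟶ Z) (q : ℕ) (F : EtCoh.Ab X)
    (h : Cn n Z ((EtCoh.Rpush (p ≫ j) q).obj F))
    (h' : ∀ a b : ℕ, a + b + 2 = q → Cn n Z ((EtCoh.Rpush j a).obj ((EtCoh.Rpush p (b + 1)).obj F))) :
    Cn n Z ((EtCoh.Rpush j q).obj ((EtCoh.push p).obj F)) :=
  Leray.edge (EtCoh.push p) (EtCoh.push j) (weakSerre_Cn n Z) (fun ι _ => Cn.of_mono ι) (injective_push p) q F
    (Cn.iso ((LerayAcyc.rightDerivedCongr (EtCoh.pushComp j p) q).app F).symm h) h'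

/-- Lemma F. -/
theorem comp [IsLocallyNoetherian Z] (p : X ⟶ Y) (j : Y ⟶ Z) (q : ℕ) (F : EtCoh.Ab X)
    (h : ∀ a b : ℕ, a + b = q → Cn n Z ((EtCoh.Rpush j a).obj ((EtCoh.Rpush p b).obj F))) :
    Cn n Z ((EtCoh.Rpush (p ≫ j) q).obj F) :=
  Cn.iso ((LerayAcyc.rightDerivedCongr (EtCoh.pushComp j p) q).app F)
    (Leray.comp (EtCoh.push p) (EtCoh.push j) (weakSerre_Cn n Z) (fun ι _ => Cn.of_mono ι) (injective_push p)
      q F h)

/-- Proper direct images. -/
theorem cn_rpush_proper (f : X ⟶ Y) [IsProper f] [IsLocallyNoetherian Y] (hn : 0 < n) {F : EtCoh.Ab X}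
    (hF : Cn n X F) (q : ℕ) : Cn n Y ((EtCoh.Rpush f q).obj F) := by
  obtain ⟨k, hk⟩ := hF.2
  have : LocallyOfFinitePresentation f := inferInstance
  exact ⟨Groth.Agent.S0184.result f (n ^ k) (Nat.pow_pos hn) F hF.1 hk q, k, killedBy_rpush f hk q⟩

theorem cn_push_proper (f : X ⟶ Y) [IsProper f] [IsLocallyNoetherian Y] (hn : 0 < n) {F : EtCoh.Ab X}
    (hF : Cn n X F) : Cn n Y ((EtCoh.push f).obj F) :=
  Cn.iso ((rpushZeroIso f).app F) (cn_rpush_proper f hn hF 0)

/-- Torsion sheaves have orders invertible on a `ℚ`-scheme. -/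
theorem isTorsionInvertibleOn (S : Scheme.{u}) (hS : Nonempty (S ⟶ Spec (CommRingCat.of (ULift.{u} ℚ))))
    (hn : 0 < n) {F : EtCoh.Ab X} (hF : Cn n X F) : EtPBC.IsTorsionInvertibleOn S F := by
  obtain ⟨k, hk⟩ := hF.2
  obtain ⟨a⟩ := hS
  intro U s x
  refine ⟨U, 𝟙 U, n ^ k, ⟨x, rfl⟩, ?_, ?_⟩
  · have h0 : IsUnit ((n ^ k : ℕ) : ULift.{u} ℚ) := by
      have h5 : IsUnit ((n ^ k : ℕ) : ℚ) := by
        refine isUnit_iff_ne_zero.2 ?_
        exact_mod_cast (Nat.pow_pos (n := k) hn).ne'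
      have h6 := h5.map (ULift.ringEquiv.{0, u} (R := ℚ)).symm
      rwa [map_natCast] at h6
    have h1 : IsUnit ((n ^ k : ℕ) : Γ(Spec (CommRingCat.of (ULift.{u} ℚ)), ⊤)) := by
      have h3 := h0.map (Scheme.ΓSpecIso (CommRingCat.of (ULift.{u} ℚ))).inv.hom
      rwa [map_natCast] at h3
    have h4 := h1.map (a.appTop).hom
    rwa [map_natCast] at h4
  · rw [op_id, F.obj.map_id]
    exact hk U s

/-- Smooth base change (constant system). -/
theorem smoothBC {X' S S' : Scheme.{u}} {f : X ⟶ S} {g : S' ⟶ S} {f' : X' ⟶ S'} {g' : X' ⟶ X}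
    (hsq : IsPullback g' f' f g) [Smooth g] [QuasiCompact f] [QuasiSeparated f] (F : EtCoh.Ab X)
    (hF : EtPBC.IsTorsionInvertibleOn S F) (q : ℕ) :
    Nonempty ((EtCoh.pull g).obj ((EtCoh.Rpush f q).obj F) ≅ (EtCoh.Rpush f' q).obj ((EtCoh.pull g').obj F)) := by
  let D : (PUnit.{u + 1})ᵒᵖ ⥤ Over S :=
    { obj := fun _ => Over.mk g
      map := fun _ => 𝟙 _ }
  let c : Cone (D ⋙ Over.forget S) :=
    { pt := S'
      π := { app := fun _ => 𝟙 S' } }
  let hc : IsLimit c :=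
    { lift := fun s => s.π.app (op PUnit.unit)
      fac := fun s j => by
        change s.π.app (op PUnit.unit) ≫ 𝟙 S' = s.π.app j
        exact Category.comp_id _
      uniq := fun s m h => by
        have h1 : m ≫ 𝟙 S' = _ := h (op PUnit.unit)
        rwa [Category.comp_id] at h1 }
  exact (Groth.Agent.S0672.result D (fun i => inferInstanceAs (Smooth g))
    (fun a b h => inferInstanceAs (IsAffineHom (𝟙 S'))) c hc g (fun i => Category.id_comp _) f f' g' hsq F hF q).1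

/-- Descent along an open cover. -/
theorem cn_of_open_cover {ι : Type u} (W : ι → X.Opens) (hW : ⨆ i, W i = ⊤) {F : EtCoh.Ab X}
    (hk : ∃ k, EtCoh.KilledBy (n ^ k) F) (h : ∀ i, Cn n (W i : Scheme.{u}) ((EtCoh.pull (W i).ι).obj F)) :
    Cn n X F :=
  ⟨Groth.Agent.S0129.result F W hW fun i => (h i).1, hk⟩

/-- A commutative square of inverse images. -/
noncomputable def pullSq {T : Scheme.{u}} (f : X ⟶ Y) (g : Y ⟶ Z) (f' : X ⟶ T) (g' : T ⟶ Z) (w : f ≫ g = f' ≫ g')
    (F : EtCoh.Ab Z) :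
    (EtCoh.pull f).obj ((EtCoh.pull g).obj F) ≅ (EtCoh.pull f').obj ((EtCoh.pull g').obj F) :=
  ((EtCore.pullComp f g).symm ≪≫ EtCore.pullCongr w ≪≫ EtCore.pullComp f' g').app F

/-- Descent along a surjective morphism locally of finite presentation. -/
theorem cn_of_surjective (f : X ⟶ Y) [Surjective f] [LocallyOfFinitePresentation f] {F : EtCoh.Ab Y}
    (hk : ∃ k, EtCoh.KilledBy (n ^ k) F) (h : Cn n X ((EtCoh.pull f).obj F)) : Cn n Y F :=
  ⟨(Groth.Agent.S8546.result f F).2 h.1, hk⟩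

/-- Descent along a family of smooth morphisms which is jointly surjective. -/
theorem cn_of_smooth_cover {ι : Type*} {T : ι → Scheme.{u}} (f : ∀ a, T a ⟶ X) [∀ a, Smooth (f a)]
    (hf : ∀ x : X, ∃ a, x ∈ Set.range (f a)) {F : EtCoh.Ab X} (hk : ∃ k, EtCoh.KilledBy (n ^ k) F)
    (h : ∀ a, Cn n (T a) ((EtCoh.pull (f a)).obj F)) : Cn n X F := by
  choose c hc using hf
  let W : X → X.Opens := fun x => ⟨Set.range (f (c x)), (f (c x)).isOpenMap.isOpen_range⟩
  refine cn_of_open_cover W ?_ hk fun a => ?_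
  · rw [eq_top_iff]
    intro x _
    exact TopologicalSpace.Opens.mem_iSup.2 ⟨x, hc x⟩
  · have hs : Surjective (f (c a) ∣_ W a) := by
      refine ⟨fun x => ?_⟩
      obtain ⟨y, hy⟩ := x.2
      refine ⟨⟨y, ⟨y, rfl⟩⟩, ?_⟩
      apply Subtype.ext
      rw [← hy]
      exact morphismRestrict_base_coe _ _ _
    have hp : LocallyOfFinitePresentation (f (c a) ∣_ W a) := inferInstance
    refine cn_of_surjective (f (c a) ∣_ W a) (hk.imp fun k hk => killedBy_pull _ hk) ?_
    exact Cn.iso (pullSq _ _ _ _ (morphismRestrict_ι (f (c a)) (W a)).symm F) (cn_pull _ (h (c a)))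

end K313.GoodOps
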