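import Groth.Agent.Etdl.H434.Emb

/-!
# Leray for Serre classes, one degree at a time

`G : A ⥤ B`, `G' : B ⥤ C` left exact, `G` preserves injectives, `Q` a Serre class in `C`.
* `edge`: `R^q (G G') X ∈ Q` and `R^a G' (R^b G X) ∈ Q` for `b ≥ 1`, `a + b + 1 = q` imply `R^q G' (G X) ∈ Q`;
* `comp`: `R^a G' (R^b G X) ∈ Q` for all `a + b = q` implies `R^q (G G') X ∈ Q`.
-/

set_option autoImplicit false
universe v₁ v₂ v₃ u₁ u₂ u₃
open CategoryTheory CategoryTheory.Limits

namespace K313.Leray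

open Groth.Agent.Sga4h.WayOut Groth.Agent.EtpbcB Groth.Agent.Etdl.H434

variable {A : Type u₁} [Category.{v₁} A] [Abelian A] [EnoughInjectives A]
  {B : Type u₂} [Category.{v₂} B] [Abelian B] [EnoughInjectives B]
  {C : Type u₃} [Category.{v₃} C] [Abelian C]
  (G : A ⥤ B) (G' : B ⥤ C) [G.Additive] [G'.Additive] [PreservesFiniteLimits G] [PreservesFiniteLimits G']

/-- An injective embedding. -/
theorem exists_ses (X : A) : ∃ S : ShortComplex A, S.ShortExact ∧ Injective S.X₂ ∧ S.X₁ = X :=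
  ⟨ShortComplex.mk (Injective.ι X) (cokernel.π (Injective.ι X)) (cokernel.condition _),
    { exact := ShortComplex.exact_of_g_is_cokernel _ (cokernelIsCokernel _)
      mono_f := by dsimp; infer_instance
      epi_g := by dsimp; infer_instance }, inferInstanceAs (Injective (Injective.under X)), rfl⟩

omit [EnoughInjectives B] [Abelian B] [Category.{v₂} B] [PreservesFiniteLimits G] in
theorem isZero_of_injective {B : Type u₂} [Category.{v₂} B] [Abelian B] (G : A ⥤ B) [G.Additive]
    (I : A) [Injective I] (n : ℕ) : IsZero ((G.rightDerived (n + 1)).obj I) :=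
  G.isZero_rightDerived_obj_injective_succ n I

section

variable {S : ShortComplex A} (hS : S.ShortExact)

/-- `0 ⟶ G X₁ ⟶ G X₂ ⟶ K ⟶ 0`. -/
noncomputable abbrev tt (S : ShortComplex A) : ShortComplex B :=
  ShortComplex.mk (G.map S.f) (cokernel.π (G.map S.f)) (cokernel.condition _)

omit [EnoughInjectives A] [EnoughInjectives B] [G.Additive] in
include hS in
theorem tt_shortExact : (tt G S).ShortExact where
  exact := ShortComplex.exact_of_g_is_cokernel _ (cokernelIsCokernel _)
  mono_f := by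
    have := hS.mono_f
    dsimp
    infer_instance
  epi_g := by dsimp; infer_instance

/-- `K ⟶ G X₃`. -/
noncomputable abbrev mm (S : ShortComplex A) : cokernel (G.map S.f) ⟶ G.obj S.X₃ :=
  cokernel.desc (G.map S.f) (G.map S.g) (by rw [← G.map_comp, S.zero, G.map_zero])

/-- `G X₃ ⟶ R^1 G X₁`. -/
noncomputable abbrev dd : G.obj S.X₃ ⟶ (G.rightDerived 1).obj S.X₁ :=
  G.toRightDerivedZero.app S.X₃ ≫ RDerLES.δ G hS 0

omit [EnoughInjectives B] [PreservesFiniteLimits G] in
theorem mm_dd : mm G S ≫ dd G hS = 0 := by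
  rw [← cancel_epi (cokernel.π (G.map S.f)), comp_zero, cokernel.π_desc_assoc]
  exact RDerLES.zero_comp_δ G hS

omit [EnoughInjectives B] in
theorem epi_dd [hI : Injective S.X₂] : Epi (dd G hS) := by
  have h1 : Epi (RDerLES.δ G hS 0) :=
    (RDerLES.exact₁ G hS 0).epi_f ((isZero_of_injective G S.X₂ 0).eq_of_tgt _ _)
  exact epi_comp _ _

omit [EnoughInjectives B] in
/-- `0 ⟶ K ⟶ G X₃ ⟶ R^1 G X₁ ⟶ 0`. -/
theorem uu_shortExact [hI : Injective S.X₂] : (ShortComplex.mk (mm G S) (dd G hS) (mm_dd G hS)).ShortExact where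
  exact := by
    have h := RDerLES.exact₃_zero G hS
    let α : ShortComplex.mk _ _ (RDerLES.zero_comp_δ G hS) ⟶ ShortComplex.mk (mm G S) (dd G hS) (mm_dd G hS) :=
      { τ₁ := cokernel.π (G.map S.f)
        τ₂ := 𝟙 _
        τ₃ := 𝟙 _
        comm₁₂ := by
          dsimp
          rw [cokernel.π_desc, Category.comp_id] }
    have : Epi α.τ₁ := by dsimp [α]; infer_instance
    have : IsIso α.τ₂ := by dsimp [α]; infer_instance
    have : Mono α.τ₃ := by dsimp [α]; infer_instance
    exact (ShortComplex.exact_iff_of_epi_of_isIso_of_mono α).1 h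
  mono_f := by
    have h1 : (S.map G).Exact := hS.exact.map_of_mono_of_preservesKernel G hS.mono_f inferInstance
    exact h1.mono_cokernelDesc
  epi_g := epi_dd G hS

omit [PreservesFiniteLimits G'] [EnoughInjectives A] [G.Additive] in
include hS in
theorem epi_δ_tt (hG : ∀ I : A, Injective I → Injective (G.obj I)) [hI : Injective S.X₂] (n : ℕ) :
    Epi (RDerLES.δ G' (tt_shortExact G hS) n) := by
  have := hG S.X₂ hI
  exact (RDerLES.exact₁ G' (tt_shortExact G hS) n).epi_f ((isZero_of_injective G' (G.obj S.X₂) n).eq_of_tgt _ _)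

omit [PreservesFiniteLimits G'] [EnoughInjectives A] [G.Additive] in
include hS in
theorem isIso_δ_tt (hG : ∀ I : A, Injective I → Injective (G.obj I)) [hI : Injective S.X₂] (n : ℕ) :
    IsIso (RDerLES.δ G' (tt_shortExact G hS) (n + 1)) := by
  have := hG S.X₂ hI
  exact RDerLES.isIso_δ G' (tt_shortExact G hS) (n + 1) (isZero_of_injective G' (G.obj S.X₂) n)
    (isZero_of_injective G' (G.obj S.X₂) (n + 1))

omit [EnoughInjectives B] [PreservesFiniteLimits G] in
/-- Dimension shift. -/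
theorem isIso_δ [hI : Injective S.X₂] (n : ℕ) : IsIso (RDerLES.δ G hS (n + 1)) :=
  RDerLES.isIso_δ G hS (n + 1) (isZero_of_injective G S.X₂ n) (isZero_of_injective G S.X₂ (n + 1))

omit [EnoughInjectives B] [PreservesFiniteLimits G] [PreservesFiniteLimits G'] in
theorem ψ_aux : G'.map (cokernel.π (G.map S.f)) ≫ (G'.map (mm G S) ≫ dd (G ⋙ G') hS) = 0 := by
  rw [← Category.assoc, ← G'.map_comp, cokernel.π_desc]
  exact RDerLES.zero_comp_δ (G ⋙ G') hS

/-- The inflation `R^1 G' (G X₁) ⟶ R^1 (G G') X₁`. -/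
theorem exists_ψ (hG : ∀ I : A, Injective I → Injective (G.obj I)) [hI : Injective S.X₂] :
    ∃ ψ : (G'.rightDerived 1).obj (G.obj S.X₁) ⟶ ((G ⋙ G').rightDerived 1).obj S.X₁,
      Mono ψ ∧ dd G' (tt_shortExact G hS) ≫ ψ = G'.map (mm G S) ≫ dd (G ⋙ G') hS := by
  have hT := tt_shortExact G hS
  have hGI := hG S.X₂ hI
  have he : Epi (dd G' hT) := epi_dd G' hT
  have hex := RDerLES.exact₃_zero G' hT
  have he' : Epi (ShortComplex.mk _ _ (RDerLES.zero_comp_δ G' hT)).g := he
  refine ⟨hex.desc (G'.map (mm G S) ≫ dd (G ⋙ G') hS) (ψ_aux G G' hS), ?_, hex.g_desc _ _⟩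
  have hmono : Mono (mm G S) := (uu_shortExact G hS).mono_f
  refine Preadditive.mono_of_cancel_zero _ fun {W} z hz => ?_
  obtain ⟨W', π, hπ, y, hy⟩ := surjective_up_to_refinements_of_epi (dd G' hT) z
  have h1 : y ≫ (G'.map (mm G S)) ≫ dd (G ⋙ G') hS = 0 := by
    rw [← hex.g_desc (G'.map (mm G S) ≫ dd (G ⋙ G') hS) (ψ_aux G G' hS)]
    change y ≫ dd G' hT ≫ _ = 0
    rw [← Category.assoc, ← hy, Category.assoc, hz, comp_zero]
  have h2 := RDerLES.exact₃_zero (G ⋙ G') hS
  rw [ShortComplex.exact_iff_exact_up_to_refinements] at h2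
  obtain ⟨W'', π', hπ', w, hw⟩ := h2 (y ≫ G'.map (mm G S)) (by
    change (y ≫ G'.map (mm G S)) ≫ dd (G ⋙ G') hS = 0
    rw [Category.assoc]
    exact h1)
  have h3 : π' ≫ y = w ≫ G'.map (cokernel.π (G.map S.f)) := by
    rw [← cancel_mono (G'.map (mm G S)), Category.assoc, Category.assoc, ← G'.map_comp, cokernel.π_desc]
    exact hw
  rw [← cancel_epi π, ← cancel_epi π', comp_zero, comp_zero, hy, ← Category.assoc, h3, Category.assoc]
  have h4 : G'.map (cokernel.π (G.map S.f)) ≫ dd G' hT = 0 := RDerLES.zero_comp_δ G' hT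
  rw [h4, comp_zero]

end

variable {Q : ObjectProperty C} (hQ : WeakSerre Q) (hsub : ∀ {F G : C} (ι : G ⟶ F) [Mono ι], Q F → Q G)
  (hG : ∀ I : A, Injective I → Injective (G.obj I))

/-- `R^0 (G G') X ≅ R^0 G' (G X)`. -/
noncomputable def zeroIso (X : A) : ((G ⋙ G').rightDerived 0).obj X ≅ (G'.rightDerived 0).obj (G.obj X) :=
  ((G ⋙ G').rightDerivedZeroIsoSelf).app X ≪≫ (G'.rightDerivedZeroIsoSelf.symm).app (G.obj X)

include hQ hsub hG

theorem edge (q : ℕ) : ∀ (X : A), Q (((G ⋙ G').rightDerived q).obj X) →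
    (∀ a b : ℕ, a + b + 2 = q → Q ((G'.rightDerived a).obj ((G.rightDerived (b + 1)).obj X))) →
    Q ((G'.rightDerived q).obj (G.obj X)) := by
  induction q with
  | zero => exact fun X h _ => hQ.iso (zeroIso G G' X) h
  | succ q ih =>
    intro X h h'
    obtain ⟨S, hS, hI, rfl⟩ := exists_ses X
    cases q with
    | zero =>
      obtain ⟨ψ, hψ, -⟩ := exists_ψ G G' hS hG
      exact hsub ψ h
    | succ q =>
      have e1 := epi_δ_tt G G' hS hG (q + 1)
      refine Emb.of_epi hQ hsub (RDerLES.δ G' (tt_shortExact G hS) (q + 1)) ?_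
      have hU := uu_shortExact G hS
      refine Emb.mid hQ hsub _ (RDerLES.exact₁ G' hU q) (h' q 0 rfl) ?_
      have i1 := isIso_δ (G ⋙ G') hS q
      refine ih S.X₃ (hQ.iso (asIso (RDerLES.δ (G ⋙ G') hS (q + 1))).symm h) fun a b hab => ?_
      have i2 := isIso_δ G hS b
      exact hQ.iso ((G'.rightDerived a).mapIso (asIso (RDerLES.δ G hS (b + 1)))).symm (h' a (b + 1) (by lia))

theorem comp (q : ℕ) : ∀ (X : A),
    (∀ a b : ℕ, a + b = q → Q ((G'.rightDerived a).obj ((G.rightDerived b).obj X))) →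
    Q (((G ⋙ G').rightDerived q).obj X) := by
  induction q with
  | zero =>
    exact fun X h => hQ.iso ((G'.rightDerived 0).mapIso ((G.rightDerivedZeroIsoSelf).app X) ≪≫
      (zeroIso G G' X).symm) (h 0 0 rfl)
  | succ q ih =>
    intro X h
    obtain ⟨S, hS, hI, rfl⟩ := exists_ses X
    have hU := uu_shortExact G hS
    cases q with
    | zero =>
      obtain ⟨ψ, hψ, hψ'⟩ := exists_ψ G G' hS hG
      have h1 : Q ((G'.rightDerived 1).obj (G.obj S.X₁)) :=
        hQ.iso ((G'.rightDerived 1).mapIso ((G.rightDerivedZeroIsoSelf).app S.X₁)) (h 1 0 rfl)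
      have h2 : Q (G'.obj ((G.rightDerived 1).obj S.X₁)) :=
        hQ.iso ((G'.rightDerivedZeroIsoSelf).app _) (h 0 1 rfl)
      -- `coker (G' K ⟶ G' G X₃)`
      have hex : ((ShortComplex.mk (mm G S) (dd G hS) (mm_dd G hS)).map G').Exact :=
        hU.exact.map_of_mono_of_preservesKernel G' hU.mono_f inferInstance
      have h3 : Q (cokernel (G'.map (mm G S))) := by
        have hm : Mono (cokernel.desc ((ShortComplex.mk (mm G S) (dd G hS) (mm_dd G hS)).map G').f
          ((ShortComplex.mk (mm G S) (dd G hS) (mm_dd G hS)).map G').g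
          ((ShortComplex.mk (mm G S) (dd G hS) (mm_dd G hS)).map G').zero) := hex.mono_cokernelDesc
        exact @hsub _ _ _ hm h2
      have h4 : Q (cokernel ψ) := by
        have e1 : Epi (dd (G ⋙ G') hS) := epi_dd (G ⋙ G') hS
        have e2 : Epi (dd (G ⋙ G') hS ≫ cokernel.π ψ) := epi_comp _ _
        have w : G'.map (mm G S) ≫ dd (G ⋙ G') hS ≫ cokernel.π ψ = 0 := by
          rw [← Category.assoc, ← hψ', Category.assoc, cokernel.condition, comp_zero]
        have e3 : Epi (cokernel.desc (G'.map (mm G S)) (dd (G ⋙ G') hS ≫ cokernel.π ψ) w) := by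
          have : Epi (cokernel.π (G'.map (mm G S)) ≫
              cokernel.desc (G'.map (mm G S)) (dd (G ⋙ G') hS ≫ cokernel.π ψ) w) := by
            rw [cokernel.π_desc]
            exact e2
          exact epi_of_epi (cokernel.π (G'.map (mm G S))) _
        exact Emb.of_epi hQ hsub (cokernel.desc (G'.map (mm G S)) (dd (G ⋙ G') hS ≫ cokernel.π ψ) w) h3
      exact Emb.mid hQ hsub (ShortComplex.mk ψ (cokernel.π ψ) (cokernel.condition _))
        (ShortComplex.exact_of_g_is_cokernel _ (cokernelIsCokernel _)) h1 h4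
    | succ q =>
      have i1 := isIso_δ (G ⋙ G') hS q
      refine hQ.iso (asIso (RDerLES.δ (G ⋙ G') hS (q + 1))) (ih S.X₃ fun a b hab => ?_)
      cases b with
      | succ b =>
        have i2 := isIso_δ G hS b
        exact hQ.iso ((G'.rightDerived a).mapIso (asIso (RDerLES.δ G hS (b + 1)))).symm (h a (b + 2) (by lia))
      | zero =>
        obtain rfl : a = q + 1 := by lia
        refine hQ.iso ((G'.rightDerived (q + 1)).mapIso ((G.rightDerivedZeroIsoSelf).app S.X₃).symm) ?_
        refine Emb.mid hQ hsub _ (RDerLES.exact₂ G' hU (q + 1)) ?_ (h (q + 1) 1 rfl)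
        have i3 := isIso_δ_tt G G' hS hG q
        refine hQ.iso (asIso (RDerLES.δ G' (tt_shortExact G hS) (q + 1))).symm ?_
        exact hQ.iso ((G'.rightDerived (q + 2)).mapIso ((G.rightDerivedZeroIsoSelf).app S.X₁)) (h (q + 2) 0 rfl)

end K313.Leray
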