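import Groth.Agent.EtDl.K313.Bm
import Groth.Agent.CalgB.RegHom6

/-!
# Certificates and regular base change

`cert_pullback`: `P ⟶ P'` regular, `P'` Noetherian, `f : X ⟶ Spec P` locally of finite type, `X' = X ×_P P'`:
`Cert X V` implies `Cert X' V'`, `V'` the preimage of `V`. `regPull : Bm.RegPull`.
-/

set_option autoImplicit false
universe u

open CategoryTheory CategoryTheory.Limits AlgebraicGeometry TensorProduct

namespace K313.RegPull

open K556.CertDef K556.CertBasic

/-- The case of a leaf. -/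
theorem leaf_pullback {P P' : Type u} [CommRing P] [CommRing P'] [Algebra P P'] [IsNoetherianRing P']
    (hreg : CAlg.IsRegularHom P P') (R : Type u) [CommRing R] {ι : Type} [Finite ι] (z : ι → R) (h : SNC R z)
    (V : (Spec (CommRingCat.of R)).Opens) (hV : ∀ p : Spec (CommRingCat.of R), (∀ i, z i ∉ p.asIdeal) → p ∈ V)
    (f : Spec (CommRingCat.of R) ⟶ Spec (CommRingCat.of P)) [LocallyOfFiniteType f] {X' : Scheme.{u}}
    (g : X' ⟶ Spec (CommRingCat.of R)) (f' : X' ⟶ Spec (CommRingCat.of P'))
    (sq : IsPullback g f' f (Spec.map (CommRingCat.ofHom (algebraMap P P')))) : Cert X' (g ⁻¹ᵁ V) := by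
  obtain ⟨φ, rfl⟩ := Spec.map_surjective f
  have hft : φ.hom.FiniteType := (HasRingHomProperty.Spec_iff (P := @LocallyOfFiniteType)).1 ‹_›
  algebraize [φ.hom]
  let Q := R ⊗[P] P'
  have h1 : CAlg.IsRegularHom R Q := Groth.Agent.CalgB.RegHom6.isRegularHom_baseChange R hreg
  have h2 : IsNoetherianRing Q := by
    have : Algebra.FiniteType P' (P' ⊗[P] R) := inferInstance
    have : IsNoetherianRing (P' ⊗[P] R) := Algebra.FiniteType.isNoetherianRing P' _
    exact isNoetherianRing_of_ringEquiv _ (Algebra.TensorProduct.comm P P' R).toRingEquiv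
  have h3 : IsPullback (Spec.map (CommRingCat.ofHom (algebraMap R Q)))
      (Spec.map (CommRingCat.ofHom (Algebra.TensorProduct.includeRight : P' →ₐ[P] Q).toRingHom)) (Spec.map φ)
      (Spec.map (CommRingCat.ofHom (algebraMap P P'))) :=
    isPullback_SpecMap_of_isPushout _ _ _ _ (CommRingCat.isPushout_tensorProduct P R P')
  let e := sq.isoIsPullback _ _ h3
  have he : e.hom ≫ Spec.map (CommRingCat.ofHom (algebraMap R Q)) = g := sq.isoIsPullback_hom_fst _ _ h3
  have h4 : Cert (Spec (CommRingCat.of Q)) (Spec.map (CommRingCat.ofHom (algebraMap R Q)) ⁻¹ᵁ V) :=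
    leaf_of_regular h V hV Q h1
  refine Cert.of_iso e.inv _ ?_
  rw [← Scheme.Hom.comp_preimage, ← he, Iso.inv_hom_id_assoc]
  exact h4

theorem cert_pullback {P P' : Type u} [CommRing P] [CommRing P'] [Algebra P P'] [IsNoetherianRing P']
    (hreg : CAlg.IsRegularHom P P') {X : Scheme.{u}} {V : X.Opens} (h : Cert X V) {X' : Scheme.{u}}
    (f : X ⟶ Spec (CommRingCat.of P)) [LocallyOfFiniteType f] (g : X' ⟶ X) (f' : X' ⟶ Spec (CommRingCat.of P'))
    (sq : IsPullback g f' f (Spec.map (CommRingCat.ofHom (algebraMap P P')))) : Cert X' (g ⁻¹ᵁ V) := by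
  induction h generalizing X' with
  | leaf R z h V hV => exact leaf_pullback hreg R z h V hV f g f' sq
  | @etale X V k Y p h1 h2 h3 h ih =>
    have h1' := h1
    have h2' := h2
    refine Cert.etale _ (fun a => pullback g (p a)) (fun a => pullback.fst g (p a)) (fun a => inferInstance)
      (fun a => inferInstance) (fun x => ?_) (fun a => ?_)
    · obtain ⟨a, y, hy⟩ := h3 (g x)
      obtain ⟨w, hw1, hw2⟩ := Scheme.Pullback.exists_preimage_pullback x y hy.symm
      exact ⟨a, w, hw1⟩
    · rw [← Scheme.Hom.comp_preimage, pullback.condition, Scheme.Hom.comp_preimage]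
      exact ih a (p a ≫ f) (pullback.snd g (p a)) (pullback.fst g (p a) ≫ f')
        ((IsPullback.of_hasPullback g (p a)).flip.paste_vert sq)
  | @proper X V k Y p h1 h3 h ih =>
    have h1' := h1
    refine Cert.proper _ (fun a => pullback g (p a)) (fun a => pullback.fst g (p a)) (fun a => inferInstance)
      (fun x hx => ?_) (fun a => ?_)
    · obtain ⟨a, y, hy⟩ := h3 (g x) hx
      obtain ⟨w, hw1, hw2⟩ := Scheme.Pullback.exists_preimage_pullback x y hy.symm
      exact ⟨a, w, hw1⟩
    · rw [← Scheme.Hom.comp_preimage, pullback.condition, Scheme.Hom.comp_preimage]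
      exact ih a (p a ≫ f) (pullback.snd g (p a)) (pullback.fst g (p a) ≫ f')
        ((IsPullback.of_hasPullback g (p a)).flip.paste_vert sq)

/-- Regular base change, the affine case. -/
theorem regPull : Bm.RegPull.{u} := by
  intro P P' _ _ _ _ _ h V hV
  exact cert_pullback h hV (𝟙 _) (Spec.map (CommRingCat.ofHom (algebraMap P P'))) (𝟙 _)
    (IsPullback.of_vert_isIso ⟨by rw [Category.comp_id, Category.id_comp]⟩)

end K313.RegPull
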