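import Groth.Agent.EtDl.K313.GenEtale
import Groth.Agent.EtDl.K313.RegPull
import Groth.Agent.CalgB.CohenSq2
import Groth.Agent.S0581
import Mathlib.RingTheory.MvPowerSeries.NoZeroDivisors

/-!
# Certificates over complete Noetherian local domains

`loc_cert`: `O` a complete Noetherian local domain of equal characteristic zero: every nonempty open of `Spec O`
contains a nonempty open `V` with `Cert (Spec O) V`, from the Weierstrass step and the finite step.
-/

set_option autoImplicit false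
universe u

open CategoryTheory CategoryTheory.Limits AlgebraicGeometry IsLocalRing

namespace K313.LocCert

open K556.CertDef

/-- The finite step. -/
def FiniteStep : Prop :=
  ∀ (X : Scheme.{u}) (V : X.Opens), Cert X V → ∀ (X1 : Scheme.{u}) (_ : X ⟶ Spec (CommRingCat.of (ULift.{u} ℚ)))
    (g : X1 ⟶ X) [IsFinite g] [Etale (g ∣_ V)], Cert X1 (g ⁻¹ᵁ V)

theorem generic_mem {A : Type u} [CommRing A] [IsDomain A] (V : (Spec (CommRingCat.of A)).Opens)
    {p : Spec (CommRingCat.of A)} (hp : p ∈ V) (η : Spec (CommRingCat.of A)) (hη : ∀ a : A, a ∈ η.asIdeal → a = 0) :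
    η ∈ V := by
  refine V.2.stableUnderGeneralization ?_ hp
  refine (PrimeSpectrum.le_iff_specializes _ _).1 fun a ha => ?_
  rw [hη a ha]
  exact p.asIdeal.zero_mem

theorem loc_cert (hW : Bm.WeierStep.{u}) (hF : FiniteStep.{u}) (O : Type u) [CommRing O] [IsDomain O]
    [IsLocalRing O] [IsNoetherianRing O] [Algebra ℚ O] [IsAdicComplete (maximalIdeal O) O]
    (V0 : (Spec (CommRingCat.of O)).Opens) (hV0 : (V0 : Set (Spec (CommRingCat.of O))).Nonempty) :
    ∃ V : (Spec (CommRingCat.of O)).Opens, V ≤ V0 ∧ (V : Set (Spec (CommRingCat.of O))).Nonempty ∧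
      Cert (Spec (CommRingCat.of O)) V := by
  have hk0 : CharZero (ResidueField O) := charZero_of_injective_algebraMap (algebraMap ℚ (ResidueField O)).injective
  obtain ⟨v, hv⟩ := Groth.Agent.CalgB.CohenSq2.exists_coefficientField (A := O)
  obtain ⟨n, φ, hφi, hφf, -⟩ := Groth.Agent.S0581.field_case O (ResidueField O) v (by
    rw [hv]
    exact Function.surjective_id)
  let A := MvPowerSeries (Fin n) (ResidueField O)
  algebraize [φ]
  have hdom : IsDomain A := NoZeroDivisors.to_isDomain A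
  have hN : IsNoetherianRing A := inferInstance
  have hA0 : CharZero A := charZero_of_injective_algebraMap (algebraMap (ResidueField O) A).injective
  have hfs : FaithfulSMul A O := (faithfulSMul_iff_algebraMap_injective A O).2 hφi
  obtain ⟨g₁, hg₁, het⟩ := GenEtale.exists_away_etale A O
  obtain ⟨x, hx⟩ := hV0
  obtain ⟨_, ⟨_, ⟨s, rfl⟩, rfl⟩, hxs, hsV⟩ :=
    PrimeSpectrum.isBasis_basic_opens.exists_subset_of_mem_open (show (x : PrimeSpectrum O) ∈ (V0 : Set _) from hx) V0.2
  have hs : s ≠ 0 := by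
    rintro rfl
    exact hxs x.asIdeal.zero_mem
  obtain ⟨g₂, hg₂, hsg⟩ := GenEtale.exists_dvd A O s hs
  obtain ⟨W, ⟨p, hp⟩, hgW, hW'⟩ := Bm.exists_cert hW RegPull.regPull (ResidueField O) n (g₁ * g₂) (mul_ne_zero hg₁ hg₂)
  let f : Spec (CommRingCat.of O) ⟶ Spec (CommRingCat.of A) := Spec.map (CommRingCat.ofHom (algebraMap A O))
  have hff : IsFinite f := (IsFinite.SpecMap_iff _).2 hφf
  have hfe : Etale (f ∣_ W) := GenEtale.etale_restrict A O g₁ het W fun p hp h =>
    hgW p hp (p.asIdeal.mul_mem_right _ h)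
  have hQ : Spec (CommRingCat.of A) ⟶ Spec (CommRingCat.of (ULift.{u} ℚ)) :=
    Spec.map (CommRingCat.ofHom ((algebraMap ℚ A).comp (ULift.ringEquiv.{0, u} (R := ℚ)).toRingHom))
  refine ⟨f ⁻¹ᵁ W, fun y hy => ?_, ⟨(⟨⊥, Ideal.isPrime_bot⟩ : PrimeSpectrum O), ?_⟩, hF _ W hW' _ hQ f⟩
  · refine hsV fun hsy => hgW _ hy ?_
    refine Ideal.mul_mem_left _ _ ?_
    change algebraMap A O g₂ ∈ y.asIdeal
    exact Ideal.mem_of_dvd _ hsg hsy
  · refine generic_mem W hp _ fun a ha => ?_
    have h1 : algebraMap A O a ∈ (⊥ : Ideal O) := ha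
    rw [Ideal.mem_bot] at h1
    exact (map_eq_zero_iff _ hφi).1 h1

end K313.LocCert
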