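import Groth.Agent.EtDl.K313.LocCert
import Groth.Agent.EtDl.K556.Weier
import Groth.Agent.EtDl.K852.AbhD
import Groth.Agent.EtDl.K852.FiniteStepMain

/-!
# Certificates over complete Noetherian local domains of equal characteristic zero
-/

set_option autoImplicit false
universe u

open CategoryTheory CategoryTheory.Limits AlgebraicGeometry IsLocalRing

namespace K313.LocCertMain

open K556.CertDef

theorem abhHyp : K556.Split.AbhHyp.{u} := K852.AbhD.abhSplit

theorem kumHyp : K556.Split.KumHyp.{u} := fun n hn hQ h => K852.FiniteStepMain.snc_kum h n hn (hQ n (by lia))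

theorem weierStep : Bm.WeierStep.{u} := fun A _ _ w d V hw hd hV h =>
  K556.Weier.weier_step abhHyp kumHyp A w d V hw hd hV h

/-- **Certificates over complete Noetherian local domains of equal characteristic zero.** -/
theorem locCert (O : Type u) [CommRing O] [IsDomain O] [IsLocalRing O] [IsNoetherianRing O] [Algebra ℚ O]
    [IsAdicComplete (maximalIdeal O) O] (V0 : (Spec (CommRingCat.of O)).Opens)
    (hV0 : (V0 : Set (Spec (CommRingCat.of O))).Nonempty) :
    ∃ V : (Spec (CommRingCat.of O)).Opens, V ≤ V0 ∧ (V : Set (Spec (CommRingCat.of O))).Nonempty ∧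
      Cert (Spec (CommRingCat.of O)) V :=
  LocCert.loc_cert weierStep (fun X V h X1 hX g _ _ => K852.FiniteStepMain.finite_step X V h X1 hX g) O V0 hV0

end K313.LocCertMain
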